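import Groth.Agent.Krr.H444.LFTrunc
import Groth.Agent.Cohder.KZBasic

/-!
The class in `K0sub P` of an object with a finite resolution by objects satisfying `V` (`V ≤ P`, `P` closed under
the syzygies of the resolutions).
-/

set_option autoImplicit false
universe w v u
open CategoryTheory CategoryTheory.Limits

namespace Groth.Agent.Krr.H444.LFClass

open Groth.Agent.Cohder.KZBasic Groth.Agent.Krr.H444.LFTrunc

variable {A : Type u} [Category.{v} A] [Abelian A]

/-- In `K0sub P`, the class of `F` is the alternating sum of the classes of the terms of a finite resolution of `F`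
by objects of `V`, provided `V ≤ P` and the syzygies lie in `P`. -/
theorem clSub_eq_sum {V P : ObjectProperty A} (hP0 : ∀ Z : A, IsZero Z → P Z) (hVP : ∀ E, V E → P E)
    (hker : ∀ (n : ℕ) (F : A) (L : ChainComplex A ℕ) (π : L ⟶ (ChainComplex.single₀ A).obj F), P F →
      IsRes V F (n + 1) L π → P (kernel (aug π))) (n : ℕ) :
    ∀ (F : A) (L : ChainComplex A ℕ) (π : L ⟶ (ChainComplex.single₀ A).obj F), P F → IsRes V F n L π →
      KZero.clSub P F = ∑ k ∈ Finset.range (n + 1), (-1 : ℤ) ^ k • KZero.clSub P (L.X k) := by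
  induction n with
  | zero =>
    intro F L π hF h
    have := h.isIso_aug
    rw [zero_add, Finset.sum_range_one, pow_zero, one_smul]
    exact (clSub_iso P hP0 (asIso (aug π)) (hVP _ (h.mem 0)) hF).symm
  | succ n ih =>
    intro F L π hF h
    have hK := hker n F L π hF h
    have h₁ := ih _ _ _ hK (isRes_trunc h)
    have h₂ := clSub_shortExact P _ h.shortExact hK (hVP _ (h.mem 0)) hF
    dsimp only [augSES] at h₂
    have h₃ : ∑ k ∈ Finset.range (n + 1), (-1 : ℤ) ^ (k + 1) • KZero.clSub P (L.X (k + 1)) =
        - KZero.clSub P (kernel (aug π)) := by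
      rw [h₁, ← Finset.sum_neg_distrib]
      refine Finset.sum_congr rfl fun k _ => ?_
      rw [ChainComplex.truncate_obj_X, pow_succ]
      simp
    rw [Finset.sum_range_succ', h₃, pow_zero, one_smul, h₂]
    abel

/-- An additive function on `P`-objects is computed on resolutions. -/
theorem additive_eq_sum {V P : ObjectProperty A} {G : Type*} [AddCommGroup G]
    (c : KZero.K0sub P →+ G) (hP0 : ∀ Z : A, IsZero Z → P Z) (hVP : ∀ E, V E → P E)
    (hker : ∀ (n : ℕ) (F : A) (L : ChainComplex A ℕ) (π : L ⟶ (ChainComplex.single₀ A).obj F), P F →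
      IsRes V F (n + 1) L π → P (kernel (aug π))) (n : ℕ)
    (F : A) (L : ChainComplex A ℕ) (π : L ⟶ (ChainComplex.single₀ A).obj F) (hF : P F) (h : IsRes V F n L π) :
      c (KZero.clSub P F) = ∑ k ∈ Finset.range (n + 1), (-1 : ℤ) ^ k • c (KZero.clSub P (L.X k)) := by
  rw [clSub_eq_sum hP0 hVP hker n F L π hF h, map_sum]
  simp only [map_zsmul]

end Groth.Agent.Krr.H444.LFClass
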