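import Groth.Prelude.Def_KRR
import Groth.Prelude.Def_PerfAux
import Groth.Agent.Krr.H444.LFClass
import Groth.Agent.S0887
import Groth.Agent.S1028
import Groth.Agent.Sga67.CohBasic
import Groth.Agent.PerfA.PerfLocal

/-!
Modules with a finite resolution by finite locally free modules: coherent, perfect in degree `0`, and their class.
-/

set_option autoImplicit false
universe u
open CategoryTheory CategoryTheory.Limits AlgebraicGeometry
attribute [local instance] HasDerivedCategory.standard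

namespace Groth.Agent.Krr.H444.LFPerf

open Groth.Agent.Cohder.KZBasic Groth.Agent.Krr.H444.LFTrunc Groth.Agent.Krr.H444.LFClass

variable {X : Scheme.{u}}

theorem isRes_of_isLFRes {F : X.Modules} {n : ℕ} {L : ChainComplex X.Modules ℕ}
    {π : L ⟶ (ChainComplex.single₀ X.Modules).obj F} (h : KRR.IsLFRes F n L π) :
    IsRes (KRR.vbP X) F n L π :=
  ⟨h.finLocFree, h.isZero, h.quasiIso⟩

theorem isLFRes_of_isRes {F : X.Modules} {n : ℕ} {L : ChainComplex X.Modules ℕ}
    {π : L ⟶ (ChainComplex.single₀ X.Modules).obj F} (h : IsRes (KRR.vbP X) F n L π) :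
    KRR.IsLFRes F n L π :=
  ⟨h.mem, h.isZero, h.quasiIso⟩

theorem hasLFRes_iff (F : X.Modules) : KRR.HasLFRes F ↔ ∃ n, HasRes (KRR.vbP X) n F :=
  ⟨fun ⟨n, L, π, h⟩ => ⟨n, L, π, isRes_of_isLFRes h⟩, fun ⟨n, L, π, h⟩ => ⟨n, L, π, isLFRes_of_isRes h⟩⟩

/-- Removing the 0-th term of a finite locally free resolution. -/
theorem isLFRes_trunc {F : X.Modules} {n : ℕ} {L : ChainComplex X.Modules ℕ}
    {π : L ⟶ (ChainComplex.single₀ X.Modules).obj F} (h : KRR.IsLFRes F (n + 1) L π) :
    KRR.IsLFRes (kernel (aug π)) n (ChainComplex.truncate.obj L) (truncπ π) :=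
  isLFRes_of_isRes (isRes_trunc (isRes_of_isLFRes h))

theorem hasLFRes_of_isFinLocFree {E : X.Modules} (hE : FlatMod.IsFinLocFree E) : KRR.HasLFRes E :=
  (hasLFRes_iff E).2 ⟨0, _, _, hasRes_zero_of_mem
    (fun _ h => Groth.Agent.PerfA.PerfLocal.isFinLocFree_of_isZero h) hE⟩

/-- `0 ⟶ K ⟶ E ⟶ F ⟶ 0` with `E` finite locally free and `K` having a finite locally free resolution. -/
theorem hasLFRes_splice {S : ShortComplex X.Modules} (hS : S.ShortExact)
    (hE : FlatMod.IsFinLocFree S.X₂) (h : KRR.HasLFRes S.X₁) : KRR.HasLFRes S.X₃ := by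
  obtain ⟨n, h⟩ := (hasLFRes_iff _).1 h
  exact (hasLFRes_iff _).2 ⟨n + 1, hasRes_splice hS hE h⟩

theorem hasResolutionProperty [IsNoetherian X] (hX : KRR.HasEnoughLocFree X) :
    PerfAux.HasResolutionProperty X := fun M h₁ h₂ => hX M ⟨h₁, h₂⟩

theorem isPerfect_of_hasRes (n : ℕ) : ∀ F : X.Modules, HasRes (KRR.vbP X) n F →
    DCoh.IsPerfect (DCoh.inD X F) := by
  induction n with
  | zero =>
    rintro F ⟨L, π, h⟩
    have := h.isIso_aug
    exact Groth.Agent.PerfA.PerfLocal.isPerfect_of_iso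
      ((DerivedCategory.singleFunctor X.Modules 0).mapIso (asIso (aug π)))
      (Groth.Agent.PerfA.PerfLocal.isPerfect_inD_of_isFinLocFree (h.mem 0))
  | succ n ih =>
    rintro F ⟨L, π, h⟩
    have hK := ih _ ⟨_, _, isRes_trunc h⟩
    have hT := h.shortExact.singleTriangle_distinguished
    exact (Groth.Agent.S0887.result _ hT).1 hK
      (Groth.Agent.PerfA.PerfLocal.isPerfect_inD_of_isFinLocFree (h.mem 0))

/-- A module with a finite resolution by finite locally free modules is perfect. -/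
theorem isPerfect_inD {F : X.Modules} (h : KRR.HasLFRes F) : DCoh.IsPerfect (DCoh.inD X F) := by
  obtain ⟨n, h⟩ := (hasLFRes_iff F).1 h
  exact isPerfect_of_hasRes n F h

/-- The property 'admits a finite resolution by finite locally free modules'. -/
abbrev lfrP (X : Scheme.{u}) : ObjectProperty X.Modules := fun M => KRR.HasLFRes M

theorem hasLFRes_of_isZero {Z : X.Modules} (hZ : IsZero Z) : KRR.HasLFRes Z :=
  hasLFRes_of_isFinLocFree (Groth.Agent.PerfA.PerfLocal.isFinLocFree_of_isZero hZ)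

/-- Over a Noetherian scheme with enough locally free modules: the Euler characteristic of finite locally free
resolutions as a homomorphism on `K₀` of the modules with such a resolution. -/
theorem exists_chiHom (X : Scheme.{u}) [IsNoetherian X] (hX : KRR.HasEnoughLocFree X) :
    ∃ χ : KZero.K0sub (lfrP X) →+ SGA6.Kvb X,
      ∀ E : X.Modules, FlatMod.IsFinLocFree E → χ (KZero.clSub (lfrP X) E) = KRR.cl X E := by
  obtain ⟨φ, hφ⟩ := Groth.Agent.S1028.result X (hasResolutionProperty hX)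
  let P : ObjectProperty (DCoh.D X) := fun K => DCoh.IsPerfect K
  let ψ : KZero.K0sub (lfrP X) →+ KZero.K0tr P :=
    liftSub (lfrP X) (fun M => KZero.clTr P (DCoh.inD X M.1))
      (fun S h₁ h₂ h₃ hS => clTr_triangle P _ hS.singleTriangle_distinguished
        (isPerfect_inD h₁) (isPerfect_inD h₂) (isPerfect_inD h₃))
  refine ⟨φ.symm.toAddMonoidHom.comp ψ, fun E hE => ?_⟩
  have h₁ : ψ (KZero.clSub (lfrP X) E) = KZero.clTr P (DCoh.inD X E) :=
    liftSub_cl _ _ _ (hasLFRes_of_isFinLocFree hE)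
  change φ.symm (ψ (KZero.clSub (lfrP X) E)) = _
  rw [h₁, ← hφ E hE, AddEquiv.symm_apply_apply]

/-- The class in `Kvb X` of a module with a finite locally free resolution. -/
theorem exists_class (X : Scheme.{u}) [IsNoetherian X] (hX : KRR.HasEnoughLocFree X) :
    ∃ χ : X.Modules → SGA6.Kvb X,
      (∀ E : X.Modules, FlatMod.IsFinLocFree E → χ E = KRR.cl X E) ∧
      (∀ S : ShortComplex X.Modules, S.ShortExact → KRR.HasLFRes S.X₁ → KRR.HasLFRes S.X₂ →
        KRR.HasLFRes S.X₃ → χ S.X₂ = χ S.X₁ + χ S.X₃) ∧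
      (∀ (F : X.Modules) (n : ℕ) (L : ChainComplex X.Modules ℕ)
        (π : L ⟶ (ChainComplex.single₀ X.Modules).obj F), KRR.IsLFRes F n L π →
        χ F = ∑ k ∈ Finset.range (n + 1), (-1 : ℤ) ^ k • KRR.cl X (L.X k)) := by
  obtain ⟨χ, hχ⟩ := exists_chiHom X hX
  refine ⟨fun M => χ (KZero.clSub (lfrP X) M), hχ, fun S hS h₁ h₂ h₃ => ?_, fun F n L π h => ?_⟩
  · dsimp only
    rw [clSub_shortExact (lfrP X) S hS h₁ h₂ h₃, map_add]
  · dsimp only
    rw [additive_eq_sum (V := KRR.vbP X) χ (fun _ hZ => hasLFRes_of_isZero hZ)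
      (fun _ hE => hasLFRes_of_isFinLocFree hE)
      (fun n F L π _ h => ⟨n, _, _, isLFRes_of_isRes (isRes_trunc h)⟩) n F L π ⟨n, L, π, h⟩
      (isRes_of_isLFRes h)]
    exact Finset.sum_congr rfl fun k _ => by rw [hχ _ (h.finLocFree k)]

end Groth.Agent.Krr.H444.LFPerf
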