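import Mathlib.Algebra.Homology.Augment
import Mathlib.Algebra.Homology.QuasiIso
import Mathlib.Algebra.Homology.SingleHomology
import Mathlib.Algebra.Homology.ShortComplex.Exact
import Mathlib.Algebra.Homology.ShortComplex.ShortExact
import Mathlib.CategoryTheory.Abelian.Exact
import Mathlib.CategoryTheory.ObjectProperty.Basic

/-!
Finite left resolutions in an abelian category by objects satisfying a property `V`: exactness criterion,
truncation (removing the 0-th term) and splicing.
-/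

set_option autoImplicit false
universe v u
open CategoryTheory CategoryTheory.Limits

namespace Groth.Agent.Krr.H444.LFTrunc

variable {A : Type u} [Category.{v} A] [Abelian A]

/-- `L ⟶ F` is a resolution of length at most `n` by objects satisfying `V`. -/
structure IsRes (V : ObjectProperty A) (F : A) (n : ℕ) (L : ChainComplex A ℕ)
    (π : L ⟶ (ChainComplex.single₀ A).obj F) : Prop where
  mem : ∀ i : ℕ, V (L.X i)
  isZero : ∀ i : ℕ, n < i → IsZero (L.X i)
  quasiIso : QuasiIso π

lemma d_comp_zero {F : A} {L : ChainComplex A ℕ} (π : L ⟶ (ChainComplex.single₀ A).obj F) :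
    L.d 1 0 ≫ π.f 0 = 0 := by
  rw [← π.comm 1 0]
  exact comp_zero

/-- The augmentation, as a map `L.X 0 ⟶ F`. -/
def aug {F : A} {L : ChainComplex A ℕ} (π : L ⟶ (ChainComplex.single₀ A).obj F) : L.X 0 ⟶ F :=
  π.f 0

lemma d_aug {F : A} {L : ChainComplex A ℕ} (π : L ⟶ (ChainComplex.single₀ A).obj F) :
    L.d 1 0 ≫ aug π = 0 := d_comp_zero π

/-- Exactness criterion for an augmented complex to be a resolution. -/
theorem quasiIso_iff {F : A} {L : ChainComplex A ℕ} (π : L ⟶ (ChainComplex.single₀ A).obj F) :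
    QuasiIso π ↔ (∀ i : ℕ, L.ExactAt (i + 1)) ∧
      (ShortComplex.mk (L.d 1 0) (aug π) (d_aug π)).Exact ∧ Epi (aug π) := by
  rw [_root_.quasiIso_iff]
  constructor
  · intro h
    refine ⟨fun i => ?_, ?_⟩
    · have := h (i + 1)
      rwa [quasiIsoAt_iff_exactAt' _ _ (ChainComplex.exactAt_succ_single_obj F i)] at this
    · have := h 0
      rw [ChainComplex.quasiIsoAt₀_iff, ShortComplex.quasiIso_iff_of_zeros'] at this
      · exact this
      · exact L.shape _ _ (by simp)
      all_goals rfl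
  · rintro ⟨h₁, h₂⟩ i
    cases i with
    | zero =>
      rw [ChainComplex.quasiIsoAt₀_iff, ShortComplex.quasiIso_iff_of_zeros']
      · exact h₂
      · exact L.shape _ _ (by simp)
      all_goals rfl
    | succ i =>
      rw [quasiIsoAt_iff_exactAt' _ _ (ChainComplex.exactAt_succ_single_obj F i)]
      exact h₁ i

/-- Truncated complex: `(L.trunc).X i = L.X (i+1)`, augmented to the kernel of the augmentation. -/
noncomputable def truncπ {F : A} {L : ChainComplex A ℕ} (π : L ⟶ (ChainComplex.single₀ A).obj F) :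
    ChainComplex.truncate.obj L ⟶ (ChainComplex.single₀ A).obj (kernel (aug π)) :=
  (ChainComplex.toSingle₀Equiv (ChainComplex.truncate.obj L) (kernel (aug π))).symm
    ⟨kernel.lift (aug π) (L.d 1 0) (d_aug π), by
      rw [← cancel_mono (kernel.ι (aug π))]
      change (L.d 2 1 ≫ kernel.lift (aug π) (L.d 1 0) _) ≫ kernel.ι (aug π) = 0 ≫ _
      rw [Category.assoc, kernel.lift_ι, L.d_comp_d, zero_comp]⟩

lemma truncπ_aug {F : A} {L : ChainComplex A ℕ} (π : L ⟶ (ChainComplex.single₀ A).obj F) :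
    aug (truncπ π) = kernel.lift (aug π) (L.d 1 0) (d_aug π) :=
  ChainComplex.toSingle₀Equiv_symm_apply_f_zero _ _

lemma truncπ_aug_ι {F : A} {L : ChainComplex A ℕ} (π : L ⟶ (ChainComplex.single₀ A).obj F) :
    aug (truncπ π) ≫ kernel.ι (aug π) = L.d 1 0 :=
  (congrArg (· ≫ kernel.ι (aug π)) (truncπ_aug π)).trans (kernel.lift_ι _ _ _)

lemma exactAt_iff_exact (L : ChainComplex A ℕ) (i : ℕ) :
    L.ExactAt (i + 1) ↔ (ShortComplex.mk (L.d (i + 2) (i + 1)) (L.d (i + 1) i) (L.d_comp_d _ _ _)).Exact := by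
  rw [L.exactAt_iff' (i + 2) (i + 1) i (by simp) (by simp)]
  rfl

/-- Removing the 0-th term of a resolution. -/
theorem isRes_trunc {V : ObjectProperty A} {F : A} {n : ℕ} {L : ChainComplex A ℕ}
    {π : L ⟶ (ChainComplex.single₀ A).obj F} (h : IsRes V F (n + 1) L π) :
    IsRes V (kernel (aug π)) n (ChainComplex.truncate.obj L) (truncπ π) := by
  obtain ⟨h₁, h₂, h₃⟩ := h
  rw [quasiIso_iff] at h₃
  obtain ⟨h₃, h₄, h₅⟩ := h₃
  refine ⟨fun i => h₁ (i + 1), fun i hi => h₂ (i + 1) (by omega), ?_⟩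
  rw [quasiIso_iff]
  refine ⟨fun i => ?_, ?_, ?_⟩
  · rw [exactAt_iff_exact]
    exact (exactAt_iff_exact L (i + 1)).1 (h₃ (i + 1))
  · have h₆ := (exactAt_iff_exact L 0).1 (h₃ 0)
    let φ : ShortComplex.mk ((ChainComplex.truncate.obj L).d 1 0) (aug (truncπ π)) (d_aug _) ⟶
        ShortComplex.mk (L.d 2 1) (L.d 1 0) (L.d_comp_d _ _ _) :=
      { τ₁ := 𝟙 _, τ₂ := 𝟙 _, τ₃ := kernel.ι (aug π)
        comm₁₂ := (Category.id_comp _).trans (Category.comp_id _).symm
        comm₂₃ := (Category.id_comp _).trans (truncπ_aug_ι π).symm }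
    have : Epi φ.τ₁ := inferInstanceAs (Epi (𝟙 (L.X 2)))
    have : IsIso φ.τ₂ := inferInstanceAs (IsIso (𝟙 (L.X 1)))
    have : Mono φ.τ₃ := inferInstanceAs (Mono (kernel.ι (aug π)))
    exact (ShortComplex.exact_iff_of_epi_of_isIso_of_mono φ).2 h₆
  · rw [truncπ_aug]
    exact (ShortComplex.exact_iff_epi_kernel_lift _).1 h₄

/-- The short exact sequence `0 ⟶ ker ⟶ L.X 0 ⟶ F ⟶ 0` of a resolution. -/
noncomputable abbrev augSES {F : A} {L : ChainComplex A ℕ} (π : L ⟶ (ChainComplex.single₀ A).obj F) :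
    ShortComplex A :=
  ShortComplex.mk (kernel.ι (aug π)) (aug π) (kernel.condition _)

theorem IsRes.epi_aug {V : ObjectProperty A} {F : A} {n : ℕ} {L : ChainComplex A ℕ}
    {π : L ⟶ (ChainComplex.single₀ A).obj F} (h : IsRes V F n L π) : Epi (aug π) :=
  ((quasiIso_iff π).1 h.quasiIso).2.2

theorem IsRes.shortExact {V : ObjectProperty A} {F : A} {n : ℕ} {L : ChainComplex A ℕ}
    {π : L ⟶ (ChainComplex.single₀ A).obj F} (h : IsRes V F n L π) : (augSES π).ShortExact where
  exact := ShortComplex.exact_kernel _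
  mono_f := inferInstanceAs (Mono (kernel.ι (aug π)))
  epi_g := h.epi_aug

/-- A resolution of length `0` is an isomorphism. -/
theorem IsRes.isIso_aug {V : ObjectProperty A} {F : A} {L : ChainComplex A ℕ}
    {π : L ⟶ (ChainComplex.single₀ A).obj F} (h : IsRes V F 0 L π) : IsIso (aug π) := by
  have h₁ := h.epi_aug
  have h₂ : Mono (aug π) := by
    have h₃ := ((quasiIso_iff π).1 h.quasiIso).2.1
    have h₄ : IsZero (L.X 1) := h.isZero 1 (by omega)
    exact (ShortComplex.exact_iff_mono _ (h₄.eq_of_src _ _)).1 h₃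
  exact isIso_of_mono_of_epi _

/-- Splicing a resolution of the kernel with an epimorphism. -/
noncomputable def spliceC {E K : A} (i : K ⟶ E) (L : ChainComplex A ℕ)
    (π : L ⟶ (ChainComplex.single₀ A).obj K) : ChainComplex A ℕ :=
  L.augment (aug π ≫ i) (by rw [← Category.assoc, d_aug, zero_comp])

noncomputable def spliceπ {F E K : A} (i : K ⟶ E) (p : E ⟶ F) (w : i ≫ p = 0) (L : ChainComplex A ℕ)
    (π : L ⟶ (ChainComplex.single₀ A).obj K) :
    spliceC i L π ⟶ (ChainComplex.single₀ A).obj F :=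
  (ChainComplex.toSingle₀Equiv (spliceC i L π) F).symm
    ⟨p, by
      change (aug π ≫ i) ≫ p = 0
      rw [Category.assoc, w, comp_zero]⟩

lemma spliceπ_aug {F E K : A} (i : K ⟶ E) (p : E ⟶ F) (w : i ≫ p = 0) (L : ChainComplex A ℕ)
    (π : L ⟶ (ChainComplex.single₀ A).obj K) : aug (spliceπ i p w L π) = p :=
  ChainComplex.toSingle₀Equiv_symm_apply_f_zero _ _

/-- Splicing: from a resolution `L` of `K` of length `n` and `0 ⟶ K ⟶ E ⟶ F ⟶ 0` with `V E`, a resolution of
`F` of length `n+1` with terms `E, L.X 0, L.X 1, …`. -/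
theorem isRes_splice {V : ObjectProperty A} {S : ShortComplex A} (hS : S.ShortExact) {n : ℕ}
    {L : ChainComplex A ℕ} {π : L ⟶ (ChainComplex.single₀ A).obj S.X₁}
    (hE : V S.X₂) (h : IsRes V S.X₁ n L π) :
    IsRes V S.X₃ (n + 1) (spliceC S.f L π) (spliceπ S.f S.g S.zero L π) := by
  obtain ⟨h₁, h₂, h₃⟩ := h
  rw [quasiIso_iff] at h₃
  obtain ⟨h₃, h₄, h₅⟩ := h₃
  have := hS.mono_f
  refine ⟨fun i => ?_, fun i hi => ?_, ?_⟩
  · cases i with
    | zero => exact hE
    | succ i => exact h₁ i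
  · cases i with
    | zero => omega
    | succ i => exact h₂ i (by omega)
  · rw [quasiIso_iff]
    refine ⟨fun i => ?_, ?_, ?_⟩
    · rw [exactAt_iff_exact]
      cases i with
      | zero =>
        change (ShortComplex.mk (L.d 1 0) (aug π ≫ S.f) _).Exact
        let φ : ShortComplex.mk (L.d 1 0) (aug π) (d_aug π) ⟶
            ShortComplex.mk (L.d 1 0) (aug π ≫ S.f) (by rw [← Category.assoc, d_aug, zero_comp]) :=
          { τ₁ := 𝟙 _, τ₂ := 𝟙 _, τ₃ := S.f
            comm₁₂ := (Category.id_comp _).trans (Category.comp_id _).symm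
            comm₂₃ := Category.id_comp _ }
        have : Epi φ.τ₁ := inferInstanceAs (Epi (𝟙 (L.X 1)))
        have : IsIso φ.τ₂ := inferInstanceAs (IsIso (𝟙 (L.X 0)))
        have : Mono φ.τ₃ := hS.mono_f
        exact (ShortComplex.exact_iff_of_epi_of_isIso_of_mono φ).1 h₄
      | succ i => exact (exactAt_iff_exact L i).1 (h₃ i)
    · let φ : ShortComplex.mk ((spliceC S.f L π).d 1 0) (aug (spliceπ S.f S.g S.zero L π)) (d_aug _) ⟶ S :=
        { τ₁ := aug π, τ₂ := 𝟙 _, τ₃ := 𝟙 _
          comm₁₂ := (Category.comp_id _).symm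
          comm₂₃ := (Category.id_comp _).trans
            ((spliceπ_aug S.f S.g S.zero L π).symm.trans (Category.comp_id _).symm) }
      have : Epi φ.τ₁ := h₅
      have : IsIso φ.τ₂ := inferInstanceAs (IsIso (𝟙 S.X₂))
      have : Mono φ.τ₃ := inferInstanceAs (Mono (𝟙 S.X₃))
      exact (ShortComplex.exact_iff_of_epi_of_isIso_of_mono φ).2 hS.exact
    · rw [spliceπ_aug]
      exact hS.epi_g

/-- Existence of a finite resolution of length at most `n`. -/
def HasRes (V : ObjectProperty A) (n : ℕ) (F : A) : Prop :=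
  ∃ (L : ChainComplex A ℕ) (π : L ⟶ (ChainComplex.single₀ A).obj F), IsRes V F n L π

theorem hasRes_splice {V : ObjectProperty A} {S : ShortComplex A} (hS : S.ShortExact) {n : ℕ}
    (hE : V S.X₂) (h : HasRes V n S.X₁) : HasRes V (n + 1) S.X₃ := by
  obtain ⟨L, π, h⟩ := h
  exact ⟨_, _, isRes_splice hS hE h⟩

/-- `F` has a resolution of length `n+1` iff there is `0 ⟶ K ⟶ E ⟶ F ⟶ 0` with `V E` and `K` having a
resolution of length `n`. -/
theorem hasRes_succ_iff {V : ObjectProperty A} {n : ℕ} {F : A} :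
    HasRes V (n + 1) F ↔ ∃ (E : A) (p : E ⟶ F), Epi p ∧ V E ∧ HasRes V n (kernel p) := by
  constructor
  · rintro ⟨L, π, h⟩
    exact ⟨L.X 0, aug π, h.epi_aug, h.mem 0, _, _, isRes_trunc h⟩
  · rintro ⟨E, p, hp, hE, hK⟩
    exact hasRes_splice (S := ShortComplex.mk (kernel.ι p) p (kernel.condition p))
      { exact := ShortComplex.exact_kernel _
        mono_f := inferInstanceAs (Mono (kernel.ι p))
        epi_g := hp } hE hK

/-- The trivial resolution of length `0`. -/
theorem hasRes_zero_of_mem {V : ObjectProperty A} {F : A} (hV0 : ∀ Z : A, IsZero Z → V Z) (hF : V F) :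
    IsRes V F 0 ((ChainComplex.single₀ A).obj F) (𝟙 _) where
  mem i := by
    cases i with
    | zero => exact hF
    | succ i => exact hV0 _ (HomologicalComplex.isZero_single_obj_X _ _ _ _ (by simp))
  isZero i hi := HomologicalComplex.isZero_single_obj_X _ _ _ _ (by omega)
  quasiIso := inferInstance

end Groth.Agent.Krr.H444.LFTrunc
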